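import Groth.Agent.MorSch.K314.MorScheme
import Mathlib.AlgebraicGeometry.Morphisms.OpenImmersion

/-!
# The morphism scheme into an open subscheme, `IsMor` form (K327)
-/

set_option autoImplicit false
universe u
open CategoryTheory CategoryTheory.Limits AlgebraicGeometry

namespace K327.MorOpen

open K314.MorScheme

variable {S C X X' M P : Scheme.{u}} {c : C ⟶ S} {f : X ⟶ S} {m : M ⟶ S} {pc : P ⟶ C} {pm : P ⟶ M} {u : P ⟶ X}
  (j : X' ⟶ X) [IsOpenImmersion j]

/-- the parameters `μ` such that `u_μ` has its image in `X'` -/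
noncomputable def openLocus [UniversallyClosed pm] (u : P ⟶ X) : M.Opens :=
  ⟨(pm '' (u ⁻¹' (Set.range j)ᶜ))ᶜ, by
    have h1 : IsClosedMap pm := pm.isClosedMap
    refine (h1 _ ?_).isOpen_compl
    exact (j.isOpenEmbedding.isOpen_range.isClosed_compl).preimage u.continuous⟩

theorem mem_openLocus [UniversallyClosed pm] (μ : M) : μ ∈ openLocus (pm := pm) j u ↔
    ∀ z : P, pm z = μ → u z ∈ Set.range j := by
  change μ ∈ (_ : Set M)ᶜ ↔ _
  rw [Set.mem_compl_iff, Set.mem_image]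
  constructor
  · intro h z hz
    by_contra hc
    exact h ⟨z, hc, hz⟩
  · rintro h ⟨z, hz, hz'⟩
    exact hz (h z hz')

theorem range_subset [UniversallyClosed pm] :
    Set.range ((pm ⁻¹ᵁ openLocus (pm := pm) j u).ι ≫ u) ⊆ Set.range j := by
  rintro _ ⟨z, rfl⟩
  rw [Scheme.Hom.comp_apply]
  exact (mem_openLocus j _).1 z.2 _ rfl

theorem isMor_open [UniversallyClosed pm] (hM : IsMor c f m pc pm u) :
    IsMor c (j ≫ f) ((openLocus (pm := pm) j u).ι ≫ m) ((pm ⁻¹ᵁ openLocus (pm := pm) j u).ι ≫ pc)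
      (pm ∣_ (openLocus (pm := pm) j u))
      (IsOpenImmersion.lift j ((pm ⁻¹ᵁ openLocus (pm := pm) j u).ι ≫ u) (range_subset j)) := by
  let W : M.Opens := openLocus (pm := pm) j u
  have sqW : IsPullback (pm ⁻¹ᵁ W).ι (pm ∣_ W) pm W.ι := (isPullback_morphismRestrict pm W).flip
  let u' := IsOpenImmersion.lift j ((pm ⁻¹ᵁ W).ι ≫ u) (range_subset j)
  have hu' : u' ≫ j = (pm ⁻¹ᵁ W).ι ≫ u := IsOpenImmersion.lift_fac _ _ _
  refine ⟨sqW.paste_horiz hM.sq, ?_, ?_⟩
  · rw [← Category.assoc, hu', Category.assoc, hM.comm, ← Category.assoc, ← Category.assoc, sqW.w]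
  · intro T Q _ t qc qt sq a ha
    obtain ⟨g, ⟨hg1, hg2⟩, hgu⟩ := hM.existsUnique t qc qt sq (a ≫ j) (by rw [Category.assoc, ha])
    let h : Q ⟶ P := hM.sq.lift qc (qt ≫ g) (by rw [Category.assoc, hg1, sq.w])
    have hh1 : h ≫ pc = qc := hM.sq.lift_fst _ _ _
    have hh2 : h ≫ pm = qt ≫ g := hM.sq.lift_snd _ _ _
    have sqh : IsPullback h qt pm g := by
      refine IsPullback.of_right (h₁₂ := pc) (h₂₂ := m) ?_ hh2 hM.sq
      rw [hh1, hg1]
      exact sq
    have hhu : h ≫ u = a ≫ j := hg2 h hh1 hh2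
    have hr : Set.range g ⊆ Set.range W.ι := by
      rintro _ ⟨τ, rfl⟩
      rw [Scheme.Opens.range_ι]
      refine (mem_openLocus j _).2 fun z hz => ?_
      obtain ⟨y, hy1, hy2⟩ := Scheme.Pullback.exists_preimage_pullback z τ hz
      let e := sqh.isoPullback
      have h1 : h (e.inv y) = z := by
        rw [← Scheme.Hom.comp_apply, IsPullback.isoPullback_inv_fst, hy1]
      rw [← h1, ← Scheme.Hom.comp_apply, hhu, Scheme.Hom.comp_apply]
      exact ⟨_, rfl⟩
    let g' : T ⟶ W := IsOpenImmersion.lift W.ι g hr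
    have hg' : g' ≫ W.ι = g := IsOpenImmersion.lift_fac _ _ _
    refine ⟨g', ⟨by rw [← Category.assoc, hg', hg1], ?_⟩, ?_⟩
    · intro k hk1 hk2
      have h3 : (k ≫ (pm ⁻¹ᵁ W).ι) ≫ u = a ≫ j := by
        refine hg2 _ (by rw [Category.assoc]; exact hk1) ?_
        rw [Category.assoc, sqW.w, ← Category.assoc, hk2, Category.assoc, hg']
      rw [← cancel_mono j, Category.assoc]
      change k ≫ u' ≫ j = _
      rw [hu', ← Category.assoc, h3]
    · rintro g₁ ⟨h1, h2⟩
      rw [← cancel_mono W.ι, hg']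
      refine hgu _ ⟨by rw [Category.assoc, h1], ?_⟩
      intro k hk1 hk2
      let k' : Q ⟶ (pm ⁻¹ᵁ W : P.Opens) := sqW.lift k (qt ≫ g₁) (by rw [hk2, Category.assoc])
      have hk' : k' ≫ (pm ⁻¹ᵁ W).ι = k := sqW.lift_fst _ _ _
      have h4 : k' ≫ u' = a := h2 k' (by rw [← Category.assoc, hk', hk1]) (sqW.lift_snd _ _ _)
      rw [← hk', Category.assoc, ← hu', ← Category.assoc, h4]

end K327.MorOpen
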