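import Groth.Agent.SDiv.K476.HomSh5
import Groth.Agent.Smoothlim.ConormalRes
import Groth.Agent.Curves.K251.FreeH0
import Groth.Prelude.Def_MorSch

/-!
# Free curves and open subschemes (K327)
-/

set_option autoImplicit false
universe u
open CategoryTheory CategoryTheory.Limits AlgebraicGeometry

namespace K327.OpenFree

/-- The dual of the differentials restricts to opens. -/
noncomputable def tanRestrict {X S : Scheme.{u}} (f : X ⟶ S) [QuasiSeparated f] (U : X.Opens) :
    (Scheme.Modules.pullback U.ι).obj (RefHull.dual (Omega.sheaf f)) ≅ RefHull.dual (Omega.sheaf (U.ι ≫ f)) :=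
  ((Scheme.Modules.restrictFunctorIsoPullback U.ι).app _).symm ≪≫ K476.HomSh5.restrictDual U.ι (Omega.sheaf f) ≪≫
    K476.HomSh1.dualIso ((Scheme.Modules.restrictFunctorIsoPullback U.ι).app (Omega.sheaf f) ≪≫
      Groth.Agent.Smoothlim.ConormalRes.omegaRestrictIso (f := f) (f' := U.ι ≫ f) (j := U.ι) (l := 𝟙 S)
        (by rw [Category.comp_id]))

theorem isFree_iff {k : Type u} [Field k] {X : Scheme.{u}} (pX : X ⟶ Spec (CommRingCat.of k)) [QuasiSeparated pX]
    (U : X.Opens) (f : CohB1.ProjSpace 1 k ⟶ X) (f' : CohB1.ProjSpace 1 k ⟶ U) (hf : f' ≫ U.ι = f) :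
    MorSch.IsFree pX f ↔ MorSch.IsFree (U.ι ≫ pX) f' := by
  let e : (Scheme.Modules.pullback f).obj (RefHull.dual (Omega.sheaf pX)) ≅
      (Scheme.Modules.pullback f').obj (RefHull.dual (Omega.sheaf (U.ι ≫ pX))) :=
    (Scheme.Modules.pullbackCongr hf.symm).app _ ≪≫ ((Scheme.Modules.pullbackComp f' U.ι).app _).symm ≪≫
      (Scheme.Modules.pullback f').mapIso (tanRestrict pX U)
  exact ⟨K251.FreeH0.isGloballyGenerated_of_iso e, K251.FreeH0.isGloballyGenerated_of_iso e.symm⟩

end K327.OpenFree
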