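import Groth.Agent.MorSch.K327.MorOpen
import Groth.Agent.MorSch.K327.OpenFree
import Groth.Agent.MorSch.K314.EvOne
import Groth.Agent.MorSch.K314.MorProj
import Groth.Agent.MorSch.K921.P1Pts
import Groth.Agent.Ega2.LocalExt
import Groth.Agent.VarietyA.RegSmoothSch
import Groth.Agent.S0558

/-!
# Free curves and separable uniruledness (K327)
-/

set_option autoImplicit false
universe u
open CategoryTheory CategoryTheory.Limits AlgebraicGeometry Opposite TopologicalSpace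
open Groth.Agent Groth.Agent.CohqB.ProjBC

namespace K327.SepUni

open K314.MorScheme K314.MorProj K314.MorSmooth K327.MorOpen

theorem pmap_id (k : Type u) [Field k] : pmap (RingHom.id k) 1 = 𝟙 (CohB1.ProjSpace 1 k) := by
  have h1 : pmap (RingHom.id k) 1 ≫ pmap (RingHom.id k) 1 = pmap (RingHom.id k) 1 := by
    rw [← Groth.Agent.Fga.QD1Hilb.pmap_comp]
    rfl
  have h2 : IsIso (Spec.map (CommRingCat.ofHom (RingHom.id k))) := by
    rw [CommRingCat.ofHom_id, Spec.map_id]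
    infer_instance
  have h3 : IsIso (pmap (RingHom.id k) 1) := (isPullback_pmap (RingHom.id k) 1).isIso_fst_of_isIso
  rw [← cancel_epi (pmap (RingHom.id k) 1), h1, Category.comp_id]

/-- The scheme of morphisms from `P¹` to an open subscheme of a quasi-projective scheme. -/
theorem exists_isMor_quasi (k : Type u) [Field k] {X : Scheme.{u}} (pX : X ⟶ Spec (CommRingCat.of k)) (N : ℕ)
    (ι : X ⟶ CohB1.ProjSpace N k) [IsImmersion ι] (hι : ι ≫ CohB1.ProjSpace.toSpec N k = pX) :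
    ∃ (M : Scheme.{u}) (m : M ⟶ Spec (CommRingCat.of k)) (P : Scheme.{u}) (pc : P ⟶ CohB1.ProjSpace 1 k)
      (pm : P ⟶ M) (u : P ⟶ X), LocallyOfFiniteType m ∧ IsMor (CohB1.ProjSpace.toSpec 1 k) pX m pc pm u := by
  have hp : IsProper (CohB1.ProjSpace.toSpec N k) := Dix.ProjProper.isProper_toSpec N k
  have hN : IsLocallyNoetherian (CohB1.ProjSpace N k) :=
    LocallyOfFiniteType.isLocallyNoetherian (CohB1.ProjSpace.toSpec N k)
  have hqc : QuasiCompact ι := by
    rw [← ι.liftCoborder_ι]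
    infer_instance
  obtain ⟨M, m, P, pc, pm, u, hm, hM⟩ := exists_mor k (ι.imageι ≫ CohB1.ProjSpace.toSpec N k) N ι.imageι rfl
  have h3 : ι.toImage ≫ (ι.imageι ≫ CohB1.ProjSpace.toSpec N k) = pX := by
    rw [← Category.assoc, Scheme.Hom.toImage_imageι, hι]
  have hc : IsProper (CohB1.ProjSpace.toSpec 1 k) := Dix.ProjProper.isProper_toSpec 1 k
  have hpm : IsProper pm := MorphismProperty.of_isPullback hM.sq hc
  have h4 := isMor_open ι.toImage hM
  rw [h3] at h4
  exact ⟨_, _, _, _, _, _, inferInstance, h4⟩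

theorem exists_integral_affine_nhd {M : Scheme.{u}} {k : Type u} [Field k] (m : M ⟶ Spec (CommRingCat.of k))
    [LocallyOfFiniteType m] [LocallyOfFinitePresentation m] (μ : M) (hμ : μ ∈ m.smoothLocus) :
    ∃ W : M.Opens, μ ∈ W ∧ IsAffineOpen W ∧ IsIntegral (W : Scheme.{u}) := by
  have : IsLocallyNoetherian M := LocallyOfFiniteType.isLocallyNoetherian m
  have h1 := Groth.Agent.VarietyA.RegSmoothSch.isRegularLocalRing_stalk_of_mem_smoothLocus m μ hμ
  have h2 : IsDomain (M.presheaf.stalk μ) := Groth.Agent.S0558.result _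
  obtain ⟨W, hyW, hW, hinj⟩ := M.exists_germ_injective μ
  refine ⟨W, hyW, hW, ?_⟩
  have h1 : IsDomain Γ(M, W) := Function.Injective.isDomain (M.presheaf.germ W μ hyW).hom hinj
  have h2 : IsDomain Γ(W, ⊤) := MulEquiv.isDomain Γ(M, W) (W.topIso.commRingCatIsoToRingEquiv.toMulEquiv)
  have : IsAffine W := hW
  have : Nonempty W := ⟨⟨μ, hyW⟩⟩
  exact isIntegral_of_isAffine_of_isDomain _

theorem main (k : Type u) [Field k] [IsAlgClosed k] (X : Scheme.{u}) (pX : X ⟶ Spec (CommRingCat.of k))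
    [IsIntegral X] [IsSeparated pX] [LocallyOfFinitePresentation pX] [QuasiCompact pX]
    (hqp : ∃ (N : ℕ) (ι : X ⟶ CohB1.ProjSpace N k), IsImmersion ι ∧ ι ≫ CohB1.ProjSpace.toSpec N k = pX)
    (f : CohB1.ProjSpace 1 k ⟶ X) (hf : f ≫ pX = CohB1.ProjSpace.toSpec 1 k)
    (hnc : ¬ ∃ x : X, Set.range f.base ⊆ {x})
    (hsm : Set.range f.base ⊆ (pX.smoothLocus : Set X)) (hfree : MorSch.IsFree pX f) :
    MorSch.IsSepUniruled k pX := by
  obtain ⟨N, ι, hι, hw⟩ := hqp
  let c := CohB1.ProjSpace.toSpec 1 k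
  let U : X.Opens := pX.smoothLocus
  have hUs : Smooth (U.ι ≫ pX) := K633.SmallExtPt.smooth_smoothLocus pX
  have hr : Set.range f ⊆ Set.range U.ι := by
    rw [Scheme.Opens.range_ι]
    exact hsm
  let f₀ : CohB1.ProjSpace 1 k ⟶ U := IsOpenImmersion.lift U.ι f hr
  have hf₀ : f₀ ≫ U.ι = f := IsOpenImmersion.lift_fac _ _ _
  obtain ⟨M, m, P, pc, pm, u, hm, hM⟩ := exists_isMor_quasi k (U.ι ≫ pX) N (U.ι ≫ ι) (by rw [Category.assoc, hw])
  have hc : IsProper c := Dix.ProjProper.isProper_toSpec 1 k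
  have hpm : IsProper pm := MorphismProperty.of_isPullback hM.sq hc
  have hmp : LocallyOfFinitePresentation m := LocallyOfFinitePresentation.iff_locallyOfFiniteType.2 inferInstance
  have hUn : IsLocallyNoetherian (U : Scheme.{u}) := LocallyOfFiniteType.isLocallyNoetherian (U.ι ≫ pX)
  have hul : LocallyOfFiniteType u := by
    have : LocallyOfFiniteType (u ≫ U.ι ≫ pX) := by
      rw [hM.comm]
      infer_instance
    exact locallyOfFiniteType_of_comp u (U.ι ≫ pX)
  have hup : LocallyOfFinitePresentation u := LocallyOfFinitePresentation.iff_locallyOfFiniteType.2 inferInstance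
  have sq0 : IsPullback (𝟙 (CohB1.ProjSpace 1 k)) c c (𝟙 _) := IsPullback.of_horiz_isIso ⟨by simp⟩
  obtain ⟨γ, ⟨hγ, hγ2⟩, -⟩ := hM.existsUnique (𝟙 _) (𝟙 _) c sq0 f₀
    (by rw [← Category.assoc, hf₀, hf, Category.comp_id])
  let h₀ : CohB1.ProjSpace 1 k ⟶ P := hM.sq.lift (𝟙 _) (c ≫ γ) (by
    rw [Category.assoc, hγ, Category.id_comp, Category.comp_id])
  have h₀1 : h₀ ≫ pc = 𝟙 _ := hM.sq.lift_fst _ _ _
  have h₀2 : h₀ ≫ pm = c ≫ γ := hM.sq.lift_snd _ _ _
  have h₀u : h₀ ≫ u = f₀ := hγ2 h₀ h₀1 h₀2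
  let μ₀ : M := γ (IsLocalRing.closedPoint k)
  have hH0 := (K251.FreeH0.isFree_iff (U.ι ≫ pX) f₀).1 ((K327.OpenFree.isFree_iff pX U f f₀ hf₀).1 hfree)
  have hfib : Subsingleton (Coh.HH (pm.fiber μ₀)
      ((Scheme.Modules.pullback (pm.fiberι μ₀)).obj (twSh (U.ι ≫ pX) pc u (-1))) 0) := by
    refine (field_iff (f := U.ι ≫ pX) hM.sq (-1) (RingHom.id k) γ ?_ h₀ ?_ h₀2 μ₀ rfl).1 ?_
    · rw [hγ, CommRingCat.ofHom_id, Spec.map_id]
    · rw [h₀1, pmap_id]
    · rw [h₀u]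
      exact hH0
  have hμs : μ₀ ∈ m.smoothLocus := mem_smoothLocus hM (-1) (by norm_num) μ₀ hfib
  obtain ⟨W, hμW, hWa, hWi⟩ := exists_integral_affine_nhd m μ₀ hμs
  have : IsAffine (W : Scheme.{u}) := hWa
  let mW : (W : Scheme.{u}) ⟶ Spec (CommRingCat.of k) := W.ι ≫ m
  have hQi : IsIntegral (pullback c mW) := K921.P1Pts.isIntegral_prod mW
  let e₁ : pullback c mW ⟶ P := hM.sq.lift (pullback.fst c mW) (pullback.snd c mW ≫ W.ι) (by
    rw [Category.assoc]
    exact pullback.condition)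
  have he1 : e₁ ≫ pc = pullback.fst c mW := hM.sq.lift_fst _ _ _
  have he2 : e₁ ≫ pm = pullback.snd c mW ≫ W.ι := hM.sq.lift_snd _ _ _
  have sqQ : IsPullback e₁ (pullback.snd c mW) pm W.ι := by
    refine IsPullback.of_right (h₁₂ := pc) (h₂₂ := m) ?_ he2 hM.sq
    rw [he1]
    exact IsPullback.of_hasPullback _ _
  have he1o : IsOpenImmersion e₁ := MorphismProperty.of_isPullback sqQ.flip inferInstance
  let e : pullback c mW ⟶ X := e₁ ≫ u ≫ U.ι
  have hγr : Set.range γ ⊆ Set.range W.ι := by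
    rintro _ ⟨y, rfl⟩
    rw [Scheme.Opens.range_ι, show y = IsLocalRing.closedPoint k from Subsingleton.elim (α := PrimeSpectrum k) _ _]
    exact hμW
  let γ' : Spec (CommRingCat.of k) ⟶ W := IsOpenImmersion.lift W.ι γ hγr
  have hγ' : γ' ≫ W.ι = γ := IsOpenImmersion.lift_fac _ _ _
  let s : CohB1.ProjSpace 1 k ⟶ pullback c mW := pullback.lift (𝟙 _) (c ≫ γ') (by
    change 𝟙 _ ≫ c = (c ≫ γ') ≫ W.ι ≫ m
    rw [Category.assoc, reassoc_of% hγ', hγ, Category.id_comp, Category.comp_id])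
  have hs1 : s ≫ e₁ = h₀ := by
    apply hM.sq.hom_ext
    · rw [Category.assoc, he1, h₀1]
      exact pullback.lift_fst _ _ _
    · rw [Category.assoc, he2, h₀2, ← Category.assoc, pullback.lift_snd, Category.assoc, hγ']
  have hse : s ≫ e = f := by
    change s ≫ e₁ ≫ u ≫ U.ι = f
    rw [reassoc_of% hs1, reassoc_of% h₀u, hf₀]
  let V : (pullback c mW).Opens := e₁ ⁻¹ᵁ u.smoothLocus
  have hVs : Smooth (V.ι ≫ e) := by
    have h1 : Smooth (u.smoothLocus.ι ≫ u) := K633.SmallExtPt.smooth_smoothLocus u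
    have h2 : V.ι ≫ e = (e₁ ∣_ u.smoothLocus) ≫ (u.smoothLocus.ι ≫ u) ≫ U.ι := by
      simp only [e, V, Category.assoc]
      rw [← morphismRestrict_ι_assoc]
    rw [h2]
    infer_instance
  obtain ⟨a⟩ : Nonempty (CohB1.ProjSpace 1 k) := inferInstance
  have haV : s a ∈ V := by
    change e₁ (s a) ∈ u.smoothLocus
    rw [← Scheme.Hom.comp_apply, hs1]
    refine K314.EvOne.mem_smoothLocus_ev hM (-1) le_rfl _ ?_
    have h3 : pm (h₀ a) = μ₀ := by
      rw [← Scheme.Hom.comp_apply, h₀2, Scheme.Hom.comp_apply]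
      exact congrArg γ (Subsingleton.elim (α := PrimeSpectrum k) _ _)
    rw [h3]
    exact hfib
  have hVd : Dense (V : Set ↥(pullback c mW)) := V.2.dense ⟨_, haV⟩
  have hdom : IsDominant e := by
    refine ⟨?_⟩
    have h1 : IsOpenMap (V.ι ≫ e) := (V.ι ≫ e).isOpenMap
    have h2 : Dense (Set.range (V.ι ≫ e)) := by
      have h3 : IsOpen (Set.range (V.ι ≫ e)) := by
        rw [← Set.image_univ]
        exact h1 _ isOpen_univ
      exact h3.dense ⟨_, ⟨⟨s a, haV⟩, rfl⟩⟩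
    refine h2.mono ?_
    rintro _ ⟨v, rfl⟩
    exact ⟨V.ι v, rfl⟩
  obtain ⟨b, hb⟩ : ∃ b, f b ≠ f a := by
    by_contra hcon
    push Not at hcon
    exact hnc ⟨f a, by rintro _ ⟨y, rfl⟩; exact hcon y⟩
  let F : MorSch.RatFam k pX :=
    { M := W
      m := mW
      isVar := ⟨hWi, inferInstance, inferInstance, inferInstance⟩
      e := e.toPartialMap
      comm := by
        have h5 : e ≫ pX = pullback.fst c mW ≫ c := by
          change (e₁ ≫ u ≫ U.ι) ≫ pX = _
          rw [Category.assoc, Category.assoc, hM.comm, reassoc_of% he2]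
          exact pullback.condition.symm
        change ((⊤ : (pullback c mW).Opens).ι ≫ e) ≫ pX = (⊤ : (pullback c mW).Opens).ι ≫ pullback.fst c mW ≫ c
        rw [Category.assoc, h5] }
  have hF : F.e.hom = (⊤ : (pullback c mW).Opens).ι ≫ e := rfl
  refine ⟨F, ?_, ⟨⟨s b, trivial⟩, ⟨s a, trivial⟩, ?_, ?_⟩, (⊤ : (pullback c mW).Opens).ι ⁻¹ᵁ V, ?_, ?_⟩
  · rw [hF]
    have h8 : IsIso (⊤ : (pullback c mW).Opens).ι := (Scheme.topIso (pullback c mW)).isIso_hom
    have h9 : IsDominant (⊤ : (pullback c mW).Opens).ι := inferInstance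
    exact inferInstanceAs (IsDominant ((⊤ : (pullback c mW).Opens).ι ≫ e))
  · change (pullback.snd c mW) (s b) = (pullback.snd c mW) (s a)
    rw [← Scheme.Hom.comp_apply, ← Scheme.Hom.comp_apply, pullback.lift_snd, Scheme.Hom.comp_apply,
      Scheme.Hom.comp_apply]
    exact congrArg γ' (Subsingleton.elim (α := PrimeSpectrum k) _ _)
  · change e (s b) ≠ e (s a)
    rw [← Scheme.Hom.comp_apply, ← Scheme.Hom.comp_apply, hse]
    exact hb
  · have : IrreducibleSpace ↥((⊤ : (pullback c mW).Opens) : Scheme.{u}) := by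
      have : Nonempty ↥((⊤ : (pullback c mW).Opens) : Scheme.{u}) := ⟨⟨s a, trivial⟩⟩
      have := isIntegral_of_isOpenImmersion (⊤ : (pullback c mW).Opens).ι
      infer_instance
    exact ((⊤ : (pullback c mW).Opens).ι ⁻¹ᵁ V).2.dense ⟨⟨s a, trivial⟩, haV⟩
  · have h6 : ((⊤ : (pullback c mW).Opens).ι ⁻¹ᵁ V).ι ≫ F.e.hom =
        ((⊤ : (pullback c mW).Opens).ι ∣_ V) ≫ V.ι ≫ e := by
      rw [hF, ← morphismRestrict_ι_assoc]
    have h7 : Smooth (((⊤ : (pullback c mW).Opens).ι ∣_ V) ≫ V.ι ≫ e) := inferInstance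
    exact h6 ▸ h7

end K327.SepUni
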